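import Cfsg.Agent.H685.ThreeExc_mg
import Cfsg.Agent.H248.TitsRGD
import Mathlib
import Cfsg.Agent.OddHalf.Known
import Cfsg.Agent.H603.SporElim
import Cfsg.Agent.OddHalf.LieOddFam
import Cfsg.Agent.Classification.DihLift_m3
import Cfsg.Agent.S1069
import Cfsg.Agent.H762.CHyp
import Cfsg.Agent.H753.LongThree
import Cfsg.Agent.OddHalf.LongSL.Rk
import Cfsg.Agent.FixBN.LOAll
import Cfsg.Agent.S1163
import Cfsg.Agent.S1068
import Cfsg.Agent.H230.Rel
import Cfsg.Agent.H78.TeFour
import Cfsg.Agent.GTwoRows.Base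
import Cfsg.Agent.LFourB.FixQuat
import Cfsg.Agent.FastGrp
import Cfsg.Agent.Prune
set_option linter.all false
prune_inst 0x7f00000000000000000000000000000000000000000000000000000000000000000000000000000000000000000000000000000000000000000000000000000000000000000000000000000000000000003fffffffffffffffffffffffffffbeffbdffffffff
open scoped Cfsg.Agent.FastGrp

-- part: H762/CharTwo
section
/-!
helper762 (S3263): groups of Lie type of characteristic two with `HasThree` : the centralizer of a 2-central involution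
normalises its Sylow 2-subgroup or contains two involutions with product of order three.
-/

set_option autoImplicit false

namespace Cfsg.Agent.H762

open CoxeterSystem Cfsg.Agent.ChevalleyStructure.CoxeterGeom Cfsg.Agent.Tits.Roots Cfsg.Agent.Tits.Core
  Cfsg.Agent.Tits.RootComb Cfsg.Agent.Nodes.Comb Cfsg.Agent.Nodes.Reps Cfsg.Agent.Nodes.BNOf
  Cfsg.Agent.Nodes.StabComb Cfsg.Agent.Nodes.Bruhat Cfsg.Agent.Nodes.LeviDec
open Subgroup

/-- two involutions of `C(τ)` with product of order three -/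
def ThreePair {G : Type*} [Group G] (τ : G) : Prop :=
  ∃ a b : G, a * τ = τ * a ∧ b * τ = τ * b ∧ a * a = 1 ∧ b * b = 1 ∧ a * b ≠ 1 ∧ a * b * (a * b) * (a * b) = 1

theorem char_two {G : Type*} [Group G] [Finite G] (h : HasThree G) (S : Sylow 2 G) {τ : G}
    (hτc : ∀ s ∈ (S : Subgroup G), s * τ = τ * s) :
    (∀ g, g * τ = τ * g → ∀ s ∈ (S : Subgroup G), g * s * g⁻¹ ∈ (S : Subgroup G)) ∨ ThreePair τ := by
  have hfact : Fact (Nat.Prime 2) := ⟨Nat.prime_two⟩
  obtain ⟨l, M, A, h, T, n, X, hW, R, hX, h3⟩ := h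
  have hGG : GG M.toCoxeterSystem h T X = ⊤ := by
    rw [eq_top_iff, ← hX]
    exact le_sup_right
  have hUp : IsPGroup 2 (RGD.Sup X (RGD.Pos M.toCoxeterSystem h)) := R.isPGroup_Upos
  have hUi : ¬ 2 ∣ (RGD.Sup X (RGD.Pos M.toCoxeterSystem h)).index := by
    have h1 := KFacts.RgdSyl.not_dvd_relIndex R
    rwa [hGG, relIndex_top_right] at h1
  let P : Sylow 2 G := hUp.toSylow hUi
  obtain ⟨g, hg⟩ := MulAction.exists_smul_eq G S P
  have hmem : ∀ x, x ∈ RGD.Sup X (RGD.Pos M.toCoxeterSystem h) ↔ g⁻¹ * x * g ∈ (S : Subgroup G) := by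
    intro x
    show x ∈ (P : Subgroup G) ↔ _
    rw [← hg, Sylow.coe_subgroup_smul, Subgroup.mem_pointwise_smul_iff_inv_smul_mem]
    rw [← map_inv]
    show (MulAut.conj g⁻¹) x ∈ _ ↔ _
    rw [MulAut.conj_apply, inv_inv]
  set τ' := g * τ * g⁻¹ with hτ'
  have hconj : ∀ x, x * τ' = τ' * x ↔ (g⁻¹ * x * g) * τ = τ * (g⁻¹ * x * g) := by
    intro x
    constructor
    · intro h1
      calc g⁻¹ * x * g * τ = g⁻¹ * (x * τ') * g := by rw [hτ']; group
        _ = g⁻¹ * (τ' * x) * g := by rw [h1]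
        _ = τ * (g⁻¹ * x * g) := by rw [hτ']; group
    · intro h1
      calc x * τ' = g * (g⁻¹ * x * g * τ) * g⁻¹ := by rw [hτ']; group
        _ = g * (τ * (g⁻¹ * x * g)) * g⁻¹ := by rw [h1]
        _ = τ' * x := by rw [hτ']; group
  let C : Subgroup G := centralizer {τ'}
  have hC : ∀ x, x ∈ C ↔ x * τ' = τ' * x := fun x => mem_centralizer_singleton_iff
  have hUC : RGD.Sup X (RGD.Pos M.toCoxeterSystem h) ≤ C := by
    intro u hu
    rw [hC, hconj]
    exact hτc _ ((hmem u).1 hu)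
  by_cases hJ : H248.TitsRGD.JU T n C = ∅
  · left
    have h1 := H248.TitsRGD.le_PJ R hUC (by rw [hGG]; exact le_top)
    rw [hJ] at h1
    have h2 := h1.trans (PJ_le_normalizer_VJ R ∅)
    have h4 : VJ M.toCoxeterSystem h X ∅ = RGD.Sup X (RGD.Pos M.toCoxeterSystem h) := by
      unfold VJ
      congr 1
      ext x
      constructor
      · rintro ⟨hx1, hx2, -⟩; exact ⟨hx1, hx2⟩
      · rintro ⟨hx1, hx2⟩
        refine ⟨hx1, hx2, ?_⟩
        by_contra hcon
        push Not at hcon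
        have h5 := RGD.ht_pos hx1 hx2
        have h6 : ht x ≤ 0 := Finset.sum_nonpos fun i _ => hcon i (Set.notMem_empty i)
        omega
    intro k hk s hs
    have h5 : g * k * g⁻¹ ∈ C := by
      rw [hC, hconj]
      have e : g⁻¹ * (g * k * g⁻¹) * g = k := by group
      rwa [e]
    have h6 := h2 h5
    rw [h4, mem_normalizer_iff] at h6
    have h7 : g * s * g⁻¹ ∈ RGD.Sup X (RGD.Pos M.toCoxeterSystem h) := by
      rw [hmem]
      have e : g⁻¹ * (g * s * g⁻¹) * g = s := by group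
      rwa [e]
    have h8 := (h6 _).1 h7
    rw [hmem] at h8
    have e : g⁻¹ * (g * k * g⁻¹ * (g * s * g⁻¹) * (g * k * g⁻¹)⁻¹) * g = k * s * k⁻¹ := by group
    rwa [e] at h8
  · right
    obtain ⟨i, hi⟩ := Set.nonempty_iff_ne_empty.2 hJ
    obtain ⟨a, ha, ha2, ha1, hrel⟩ := h3 i
    have hsr : sr i ∈ RootsJ M.toCoxeterSystem h (H248.TitsRGD.JU T n C) := by
      refine ⟨isRoot_sr _ h i, fun k hk => sr_ne ?_⟩
      rintro rfl; exact hk hi
    have haC : a ∈ C := H248.TitsRGD.X_le R hUC hsr ha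
    have hb : n i * a * (n i)⁻¹ ∈ X (-sr i) := by
      have := R.conj_mem (rp_simple M.toCoxeterSystem R.nsys i) (isRoot_sr M.toCoxeterSystem h i) ha
      rwa [rep_simple_sr] at this
    have hbC : n i * a * (n i)⁻¹ ∈ C := H248.TitsRGD.X_le R hUC (RootsJ.neg (cs := M.toCoxeterSystem) (h := h) hsr) hb
    have hcube := cube_of_node ha2 hrel
    have hne : a * (n i * a * (n i)⁻¹) ≠ 1 := by
      intro h1
      have h2 : n i * a * (n i)⁻¹ = a := by
        have h4 := eq_inv_of_mul_eq_one_right h1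
        rw [h4, inv_eq_iff_mul_eq_one]; exact ha2
      rw [h2] at hrel
      have h5 : n i = a := by
        calc n i = (a * a) * n i * (a * a) := by rw [ha2, one_mul, mul_one]
          _ = a * (a * n i * a) * a := by group
          _ = a := by rw [← hrel, ha2, one_mul]
      have h6 : cj (n i) (X (sr i)) = X (sr i) := by
        rw [h5]; exact cj_eq_of_mem ha
      rw [R.conj i _ (isRoot_sr _ h i), rep_simple_sr] at h6
      apply R.notp i
      rw [h6, sup_idem]
      exact R.pgrp i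
    have hconj' : ∀ x, x ∈ C → (g⁻¹ * x * g) * τ = τ * (g⁻¹ * x * g) := fun x hx => (hconj x).1 ((hC x).1 hx)
    generalize hbd : n i * a * (n i)⁻¹ = b at *
    have hbb : b * b = 1 := by
      rw [← hbd]
      calc n i * a * (n i)⁻¹ * (n i * a * (n i)⁻¹) = n i * (a * a) * (n i)⁻¹ := by group
        _ = 1 := by rw [ha2, mul_one, mul_inv_cancel]
    refine ⟨g⁻¹ * a * g, g⁻¹ * b * g, hconj' _ haC, hconj' _ hbC, ?_, ?_, ?_, ?_⟩
    · calc g⁻¹ * a * g * (g⁻¹ * a * g) = g⁻¹ * (a * a) * g := by group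
        _ = 1 := by rw [ha2, mul_one, inv_mul_cancel]
    · calc g⁻¹ * b * g * (g⁻¹ * b * g) = g⁻¹ * (b * b) * g := by group
        _ = 1 := by rw [hbb, mul_one, inv_mul_cancel]
    · intro h1
      apply hne
      have e : a * b = g * (g⁻¹ * a * g * (g⁻¹ * b * g)) * g⁻¹ := by group
      rw [e, h1]; group
    · calc g⁻¹ * a * g * (g⁻¹ * b * g) * (g⁻¹ * a * g * (g⁻¹ * b * g)) * (g⁻¹ * a * g * (g⁻¹ * b * g)) =
          g⁻¹ * (a * b * (a * b) * (a * b)) * g := by group
        _ = 1 := by rw [hcube, mul_one, inv_mul_cancel]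

end Cfsg.Agent.H762
end

-- part: H479/AltThree
section
namespace Cfsg.Agent.H479.AltThree

open Equiv Equiv.Perm

variable {α : Type*} [DecidableEq α]

theorem comm_swap {σ : Perm α} {x y x' y' : α} (hx : σ x = x') (hy : σ y = y') :
    σ * swap x y = swap x' y' * σ := by
  rw [Equiv.mul_swap_eq_swap_mul, hx, hy]

theorem swap_comm_of_ne {x y z w : α} (h : [x, y, z, w].Nodup) : swap x y * swap z w = swap z w * swap x y :=
  (Equiv.Perm.disjoint_swap_swap h).commute

theorem sq_swap {x y z w : α} (h : [x, y, z, w].Nodup) :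
    swap x y * swap z w * (swap x y * swap z w) = 1 := by
  have e := swap_comm_of_ne h
  calc swap x y * swap z w * (swap x y * swap z w) = swap z w * swap x y * (swap x y * swap z w) := by rw [e]
    _ = 1 := by
      rw [mul_assoc, ← mul_assoc (swap x y) (swap x y) (swap z w), Equiv.swap_mul_self, one_mul,
        Equiv.swap_mul_self]

variable [Fintype α]

theorem cube {x y z : α} (h1 : x ≠ y) (h2 : y ≠ z) (h3 : x ≠ z) :
    (swap x y * swap y z) ^ 3 = 1 := by
  have := Equiv.Perm.isThreeCycle_swap_mul_swap_same (a := y) (b := x) (c := z) h1.symm h2 h3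
  rw [Equiv.swap_comm y x] at this
  have h := this.orderOf
  rw [← h]; exact pow_orderOf_eq_one _

theorem key {n : ℕ} (hn : 9 ≤ n) (σ : Perm (Fin n)) (h1 : σ ≠ 1) (h2 : σ * σ = 1) (hs : sign σ = 1) :
    ∃ a b : Perm (Fin n), sign a = 1 ∧ sign b = 1 ∧ a * σ = σ * a ∧ b * σ = σ * b ∧ a * a = 1 ∧ b * b = 1 ∧
      a * b ≠ 1 ∧ a * b * (a * b) * (a * b) = 1 := by
  have hinv : ∀ x, σ (σ x) = x := fun x => by
    have := congrArg (fun τ : Perm (Fin n) => τ x) h2
    simpa using this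
  obtain ⟨p, hp⟩ : ∃ p, σ p ≠ p := by
    by_contra hc
    push Not at hc
    exact h1 (Equiv.ext hc)
  obtain ⟨r, hr, hrp, hrq⟩ : ∃ r, σ r ≠ r ∧ r ≠ p ∧ r ≠ σ p := by
    by_contra hc
    push Not at hc
    have e : σ = swap p (σ p) := by
      ext x
      by_cases hx : x = p
      · subst hx; rw [Equiv.swap_apply_left]
      · by_cases hx' : x = σ p
        · rw [hx', Equiv.swap_apply_right, hinv]
        · rw [Equiv.swap_apply_of_ne_of_ne hx hx']
          by_contra hne
          have hne' : σ x ≠ x := fun e => hne (by rw [e])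
          exact hx' (hc x hne' hx)
    have h : sign σ = -1 := by
      rw [e, Equiv.Perm.sign_swap (Ne.symm hp)]
    rw [h] at hs
    exact absurd hs (by decide)
  have hrs : σ r ≠ p := fun h => hrq (by rw [← h, hinv])
  have hrs' : σ r ≠ σ p := fun h => hrp (σ.injective h)
  by_cases hu : ∃ u, σ u ≠ u ∧ u ≠ p ∧ u ≠ σ p ∧ u ≠ r ∧ u ≠ σ r
  · obtain ⟨u, hu, hup, huq, hur, hus⟩ := hu
    have g1 : σ u ≠ p := fun h => huq (by rw [← h, hinv])
    have g2 : σ u ≠ σ p := fun h => hup (σ.injective h)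
    have g3 : σ u ≠ r := fun h => hus (by rw [← h, hinv])
    have g4 : σ u ≠ σ r := fun h => hur (σ.injective h)
    have n1 : [p, r, σ p, σ r].Nodup := by
      simp only [List.nodup_cons, List.mem_cons, List.not_mem_nil, or_false, not_or, not_false_eq_true,
        List.nodup_nil, and_true]
      exact ⟨⟨hrp.symm, hp.symm, hrs.symm⟩, ⟨hrq, hr.symm⟩, hrs'.symm⟩
    have n2 : [r, u, σ r, σ u].Nodup := by
      simp only [List.nodup_cons, List.mem_cons, List.not_mem_nil, or_false, not_or, not_false_eq_true,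
        List.nodup_nil, and_true]
      exact ⟨⟨hur.symm, hr.symm, g3.symm⟩, ⟨hus, hu.symm⟩, g4.symm⟩
    have n3 : [σ p, σ r, r, u].Nodup := by
      simp only [List.nodup_cons, List.mem_cons, List.not_mem_nil, or_false, not_or, not_false_eq_true,
        List.nodup_nil, and_true]
      exact ⟨⟨hrs'.symm, hrq.symm, huq.symm⟩, ⟨hr, hus.symm⟩, hur.symm⟩
    have n4 : [p, r, σ r, σ u].Nodup := by
      simp only [List.nodup_cons, List.mem_cons, List.not_mem_nil, or_false, not_or, not_false_eq_true,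
        List.nodup_nil, and_true]
      exact ⟨⟨hrp.symm, hrs.symm, g1.symm⟩, ⟨hr.symm, g3.symm⟩, g4.symm⟩
    have n5 : [r, u, σ p, σ r].Nodup := by
      simp only [List.nodup_cons, List.mem_cons, List.not_mem_nil, or_false, not_or, not_false_eq_true,
        List.nodup_nil, and_true]
      exact ⟨⟨hur.symm, hrq, hr.symm⟩, ⟨huq, hus⟩, hrs'.symm⟩
    set A := swap p r with hA
    set A' := swap (σ p) (σ r) with hA'
    set B := swap r u with hB
    set B' := swap (σ r) (σ u) with hB'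
    have c1 : σ * A = A' * σ := comm_swap rfl rfl
    have c2 : σ * A' = A * σ := comm_swap (hinv p) (hinv r)
    have c3 : σ * B = B' * σ := comm_swap rfl rfl
    have c4 : σ * B' = B * σ := comm_swap (hinv r) (hinv u)
    have d1 : A * A' = A' * A := swap_comm_of_ne n1
    have d2 : B * B' = B' * B := swap_comm_of_ne n2
    have d3 : A' * B = B * A' := swap_comm_of_ne n3
    have d4 : A * B' = B' * A := swap_comm_of_ne n4
    have e1 : (A * B) ^ 3 = 1 := cube hrp.symm hur.symm hup.symm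
    have e2 : (A' * B') ^ 3 = 1 := cube hrs'.symm g4.symm g2.symm
    have e3 : A * A' * (B * B') = A * B * (A' * B') := by
      calc A * A' * (B * B') = A * (A' * B) * B' := by group
        _ = A * (B * A') * B' := by rw [d3]
        _ = A * B * (A' * B') := by group
    have hcomm : Commute (A * B) (A' * B') := by
      have q1 : Commute A A' := d1
      have q2 : Commute A B' := d4
      have q3 : Commute B A' := d3.symm
      have q4 : Commute B B' := d2
      exact (q1.mul_right q2).mul_left (q3.mul_right q4)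
    refine ⟨A * A', B * B', ?_, ?_, ?_, ?_, sq_swap n1, sq_swap n2, ?_, ?_⟩
    · rw [Equiv.Perm.sign_mul, hA, hA', sign_swap hrp.symm, sign_swap hrs'.symm]; decide
    · rw [Equiv.Perm.sign_mul, hB, hB', sign_swap hur.symm, sign_swap g4.symm]; decide
    · calc A * A' * σ = A * (A' * σ) := mul_assoc _ _ _
        _ = A * (σ * A) := by rw [c1]
        _ = A * σ * A := (mul_assoc _ _ _).symm
        _ = σ * A' * A := by rw [c2]
        _ = σ * (A' * A) := mul_assoc _ _ _
        _ = σ * (A * A') := by rw [d1]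
    · calc B * B' * σ = B * (B' * σ) := mul_assoc _ _ _
        _ = B * (σ * B) := by rw [c3]
        _ = B * σ * B := (mul_assoc _ _ _).symm
        _ = σ * B' * B := by rw [c4]
        _ = σ * (B' * B) := mul_assoc _ _ _
        _ = σ * (B * B') := by rw [d2]
    · intro h
      rw [e3] at h
      have := congrArg (fun τ : Perm (Fin n) => τ u) h
      simp only [Perm.mul_apply, Perm.one_apply] at this
      rw [hA, hA', hB, hB'] at this
      rw [Equiv.swap_apply_of_ne_of_ne (a := σ r) (b := σ u) (x := u) hus hu.symm,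
        Equiv.swap_apply_of_ne_of_ne (a := σ p) (b := σ r) (x := u) huq hus,
        Equiv.swap_apply_right, Equiv.swap_apply_right] at this
      exact hup this.symm
    · rw [e3]
      have : (A * B * (A' * B')) ^ 3 = 1 := by rw [hcomm.mul_pow, e1, e2, one_mul]
      rw [pow_three'] at this
      exact this
  · push Not at hu
    have hfix : ∀ u, u ∉ ({p, σ p, r, σ r} : Finset (Fin n)) → σ u = u := by
      intro u hu'
      simp only [Finset.mem_insert, Finset.mem_singleton, not_or] at hu'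
      by_contra hne
      exact hu'.2.2.2 (hu u hne hu'.1 hu'.2.1 hu'.2.2.1)
    have hcard : 5 ≤ (({p, σ p, r, σ r} : Finset (Fin n))ᶜ).card := by
      rw [Finset.card_compl, Fintype.card_fin]
      have : ({p, σ p, r, σ r} : Finset (Fin n)).card ≤ 4 := Finset.card_le_four
      omega
    obtain ⟨s, hs1, hs2⟩ := Finset.exists_subset_card_eq hcard
    let e := s.equivFinOfCardEq hs2
    let c : Fin 5 → Fin n := fun i => (e.symm i : Fin n)
    have hcinj : Function.Injective c := fun i j h => e.symm.injective (Subtype.ext h)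
    have hcf : ∀ i, σ (c i) = c i := fun i =>
      hfix _ (Finset.mem_compl.1 (hs1 (e.symm i).2))
    have hne : ∀ i j, i ≠ j → c i ≠ c j := fun i j h h' => h (hcinj h')
    have n1 : [c 0, c 1, c 3, c 4].Nodup := by
      have : ([0, 1, 3, 4] : List (Fin 5)).Nodup := by decide
      exact (List.nodup_map_iff hcinj (l := [0, 1, 3, 4])).2 this
    have n2 : [c 1, c 2, c 3, c 4].Nodup := by
      have : ([1, 2, 3, 4] : List (Fin 5)).Nodup := by decide
      exact (List.nodup_map_iff hcinj (l := [1, 2, 3, 4])).2 this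
    set A := swap (c 0) (c 1) with hA
    set B := swap (c 1) (c 2) with hB
    set D := swap (c 3) (c 4) with hD
    have c1 : σ * A = A * σ := comm_swap (hcf 0) (hcf 1)
    have c2 : σ * B = B * σ := comm_swap (hcf 1) (hcf 2)
    have c3 : σ * D = D * σ := comm_swap (hcf 3) (hcf 4)
    have d1 : A * D = D * A := swap_comm_of_ne n1
    have d2 : B * D = D * B := swap_comm_of_ne n2
    have dd : D * D = 1 := Equiv.swap_mul_self _ _
    have e1 : (A * B) ^ 3 = 1 := cube (hne 0 1 (by decide)) (hne 1 2 (by decide)) (hne 0 2 (by decide))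
    have e3 : A * D * (B * D) = A * B := by
      calc A * D * (B * D) = A * (D * B) * D := by group
        _ = A * (B * D) * D := by rw [d2]
        _ = A * B * (D * D) := by group
        _ = A * B := by rw [dd, mul_one]
    refine ⟨A * D, B * D, ?_, ?_, ?_, ?_, sq_swap n1, sq_swap n2, ?_, ?_⟩
    · rw [Equiv.Perm.sign_mul, hA, hD, sign_swap (hne 0 1 (by decide)), sign_swap (hne 3 4 (by decide))]; decide
    · rw [Equiv.Perm.sign_mul, hB, hD, sign_swap (hne 1 2 (by decide)), sign_swap (hne 3 4 (by decide))]; decide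
    · calc A * D * σ = A * (D * σ) := mul_assoc _ _ _
        _ = A * (σ * D) := by rw [c3]
        _ = A * σ * D := (mul_assoc _ _ _).symm
        _ = σ * A * D := by rw [c1]
        _ = σ * (A * D) := mul_assoc _ _ _
    · calc B * D * σ = B * (D * σ) := mul_assoc _ _ _
        _ = B * (σ * D) := by rw [c3]
        _ = B * σ * D := (mul_assoc _ _ _).symm
        _ = σ * B * D := by rw [c2]
        _ = σ * (B * D) := mul_assoc _ _ _
    · rw [e3]
      intro h
      have := congrArg (fun τ : Perm (Fin n) => τ (c 2)) h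
      simp only [Perm.mul_apply, Perm.one_apply] at this
      rw [hA, hB, Equiv.swap_apply_right, Equiv.swap_apply_right] at this
      exact hne 0 2 (by decide) this
    · rw [e3, ← pow_three', e1]

theorem alt_three {n : ℕ} (hn : 9 ≤ n) (t : ↥(alternatingGroup (Fin n))) (ht : orderOf t = 2) :
    ∃ a b : ↥(alternatingGroup (Fin n)), a * t = t * a ∧ b * t = t * b ∧ a * a = 1 ∧ b * b = 1 ∧ a * b ≠ 1 ∧
      a * b * (a * b) * (a * b) = 1 := by
  have h1 : (t : Perm (Fin n)) ≠ 1 := by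
    intro h
    have : t = 1 := Subtype.ext h
    rw [this, orderOf_one] at ht
    exact absurd ht (by norm_num)
  have h2 : (t : Perm (Fin n)) * (t : Perm (Fin n)) = 1 := by
    have := pow_orderOf_eq_one t
    rw [ht, pow_two] at this
    exact congrArg Subtype.val this
  obtain ⟨a, b, ha, hb, h3, h4, h5, h6, h7, h8⟩ := key hn (t : Perm (Fin n)) h1 h2 (Equiv.Perm.mem_alternatingGroup.1 t.2)
  refine ⟨⟨a, Equiv.Perm.mem_alternatingGroup.2 ha⟩, ⟨b, Equiv.Perm.mem_alternatingGroup.2 hb⟩,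
    Subtype.ext h3, Subtype.ext h4, Subtype.ext h5, Subtype.ext h6, fun h => h7 (congrArg Subtype.val h),
    Subtype.ext h8⟩

end Cfsg.Agent.H479.AltThree
end

-- part: H762/Rough
section
/-!
helper762 (S3263): known simple groups with a 2-central involution `τ` whose centralizer contains no two involutions
with product of order three and does not normalise a Sylow 2-subgroup.
-/

set_option autoImplicit false

namespace Cfsg.Agent.H762

open Subgroup

theorem not_odd_char_two {F : Type*} [Field F] [Fintype F] [CharP F 2] : ¬ Odd (Fintype.card F) := by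
  intro h
  obtain ⟨n, -, hn⟩ := FiniteField.card F 2
  rw [hn] at h
  exact (Nat.not_even_iff_odd.2 h) (even_two.pow_of_ne_zero n.ne_zero)

/-- transport of `ThreePair` -/
theorem ThreePair.of_equiv {G H : Type*} [Group G] [Group H] (e : G ≃* H) {τ : G} (h : ThreePair (e τ)) :
    ThreePair τ := by
  obtain ⟨a, b, h1, h2, h3, h4, h5, h6⟩ := h
  refine ⟨e.symm a, e.symm b, ?_, ?_, ?_, ?_, ?_, ?_⟩
  · apply e.injective; simpa only [_root_.map_mul, _root_.MulEquiv.apply_symm_apply] using h1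
  · apply e.injective; simpa only [_root_.map_mul, _root_.MulEquiv.apply_symm_apply] using h2
  · apply e.injective; simpa only [_root_.map_mul, _root_.MulEquiv.apply_symm_apply, _root_.map_one] using h3
  · apply e.injective; simpa using h4
  · intro h; apply h5; simpa only [_root_.map_mul, _root_.MulEquiv.apply_symm_apply, _root_.map_one] using congrArg e h
  · apply e.injective; simpa only [_root_.map_mul, _root_.MulEquiv.apply_symm_apply, _root_.map_one] using h6

/-- **the possibilities** -/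
theorem rough {M : Type*} [Group M] [Finite M] (hna : ¬ IsMulCommutative M) (hk : IsKnownSimple' M) (S : Sylow 2 M)
    {τ : M} (hτ : orderOf τ = 2) (hτc : ∀ s ∈ (S : Subgroup M), s * τ = τ * s) (hpair : ¬ ThreePair τ)
    (hnorm : ¬ ∀ g, g * τ = τ * g → ∀ s ∈ (S : Subgroup M), g * s * g⁻¹ ∈ (S : Subgroup M)) :
    (∃ n, n ≤ 8 ∧ Nonempty (M ≃* alternatingGroup (Fin n))) ∨
      (¬ IsAlternating M ∧ ∃ p : ℕ, p.Prime ∧ p ≠ 2 ∧ IsLieTypeChar p M) ∨
      Lie.IsoSuzuki M ∨ Lie.Iso2F4 M ∨ Lie.IsoTits M ∨ IsSporadicGroup M := by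
  by_cases halt : IsAlternating M
  · left
    obtain ⟨n, hn, ⟨e⟩⟩ := halt
    refine ⟨n, ?_, ⟨e⟩⟩
    by_contra hcon
    obtain ⟨a, b, h1, h2, h3, h4, h5, h6⟩ := H479.AltThree.alt_three (n := n) (by omega) (e τ) (by
      rw [MulEquiv.orderOf_eq, hτ])
    exact hpair (ThreePair.of_equiv e ⟨a, b, h1, h2, h3, h4, h5, h6⟩)
  right
  have hthree : HasThree M → False := by
    intro h
    rcases char_two h S hτc with h | h
    · exact hnorm h
    · exact hpair h
  rcases OddHalf.Known.classify hna hk with h | ⟨p, hp, h2, h⟩ | (h | h) | h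
  · exact absurd h halt
  · exact Or.inl ⟨halt, p, hp, h2, h⟩
  · right
    rcases h with h | h | h | h | h | h | h | h | ⟨-, h⟩ | ⟨-, h⟩ | ⟨h, -⟩
    · exact (hthree (H685.Three.hasThree_psl h)).elim
    · exact (hthree (H685.Three.hasThree_witt (Or.inl h))).elim
    · exact (hthree (H685.Three.hasThree_witt (Or.inr (Or.inl h)))).elim
    · obtain ⟨F, _, _, _, m, -, h, -⟩ := h
      exact (not_odd_char_two h).elim
    · exact (hthree (H685.Three.hasThree_witt (Or.inr (Or.inr (Or.inl h))))).elim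
    · exact (hthree (H685.Three.hasThree_witt (Or.inr (Or.inr (Or.inr h))))).elim
    · exact (hthree (H685.Three.hasThree_exc h)).elim
    · exact (hthree (H685.Three.hasThree_tw h)).elim
    · exact Or.inl h
    · exact Or.inr (Or.inl h)
    · omega
  · exact Or.inr (Or.inr (Or.inr (Or.inl h)))
  · exact Or.inr (Or.inr (Or.inr (Or.inr h)))

end Cfsg.Agent.H762
end

-- part: H126/SporVal
section
/-!
# 2-parts of the sporadic orders (helper126, market task 179 of helper762)
-/

set_option autoImplicit false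

namespace Cfsg.Agent.H126.SporVal

open Cfsg Cfsg.Agent.NotCT

theorem key {N : ℕ} (c : (2 ^ 12 ∣ N ∧ ¬ 2 ^ 13 ∣ N) ∨ (2 ^ 36 ∣ N ∧ ¬ 2 ^ 37 ∣ N) ∨ 2 ^ 60 ∣ N → False)
    (m : ℕ) (h1 : 2 ^ (12 * (2 * m + 1)) ∣ N) (h2 : ¬ 2 ^ (12 * (2 * m + 1) + 1) ∣ N) : False := by
  rcases Nat.lt_or_ge m 2 with hm | hm
  · interval_cases m
    · exact c (Or.inl ⟨h1, h2⟩)
    · exact c (Or.inr (Or.inl ⟨h1, h2⟩))
  · exact c (Or.inr (Or.inr ((pow_dvd_pow 2 (by omega)).trans h1)))

theorem spor_two {G : Type*} [Group G] (h : Cfsg.IsSporadicGroup G ∨ Cfsg.Lie.IsoTits G) (m : ℕ)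
    (h1 : 2 ^ (12 * (2 * m + 1)) ∣ Nat.card G) (h2 : ¬ 2 ^ (12 * (2 * m + 1) + 1) ∣ Nat.card G) : False := by
  refine key (N := Nat.card G) ?_ m h1 h2
  clear h1 h2
  rcases h with (h | h | h | h | h | h | h | h | h | h | h | h | h | h | h | h | h | h | h | h | h | h |
    h | h | h | h) | h
  · rw [Orders.m11 h]; norm_num
  · rw [Orders.m12 h]; norm_num
  · rw [Orders.m22 h]; norm_num
  · rw [Orders.m23 h]; norm_num
  · rw [Orders.m24 h]; norm_num
  · rw [Orders.j1 h]; norm_num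
  · rw [Orders.j2 h]; norm_num
  · rw [Orders.j3 h]; norm_num
  · rw [Orders.j4 h]; norm_num
  · rw [Orders.co1 h]; norm_num
  · rw [Orders.co2 h]; norm_num
  · rw [Orders.co3 h]; norm_num
  · rw [Orders.mcl h]; norm_num
  · rw [Orders.hs h]; norm_num
  · rw [Orders.suz h]; norm_num
  · rw [Orders.he h]; norm_num
  · rw [Orders.ru h]; norm_num
  · rw [Orders.on h]; norm_num
  · rw [Orders.ly h]; norm_num
  · rw [Orders.fi22 h]; norm_num
  · rw [Orders.fi23 h]; norm_num
  · rw [Orders.fi24 h]; norm_num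
  · rw [Orders.hn h]; norm_num
  · rw [Orders.th h]; norm_num
  · rw [Orders.b h]; norm_num
  · rw [Orders.m h]; norm_num
  · rw [Orders.tits h]; norm_num

end Cfsg.Agent.H126.SporVal
end

-- part: H126/ElemSixteen
section
/-!
# Elementary abelian 2-subgroups of `PSL(2,q)` and of the Ree groups (helper126, market task 181 of helper762)
-/

set_option autoImplicit false

namespace Cfsg.Agent.H126.ElemSixteen

open Matrix Cfsg.Agent.ClassicalGeometry.QuatPair Cfsg.Agent.ClassicalGeometry.KleinCount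
open Cfsg.Agent.ClassicalGeometry.PSL2Klein

section PSL

variable {F : Type*} [Field F]

local notation "SL2" => Matrix.SpecialLinearGroup (Fin 2)
local notation "PSL2" => Matrix.ProjectiveSpecialLinearGroup (Fin 2)

theorem mk_eq_one_of_scalar {C : SL2 F} {r : F} (h : C.1 = r • (1 : Matrix (Fin 2) (Fin 2) F)) :
    (mk C : PSL2 F) = 1 := by
  rw [mk_eq_one]
  have hd := C.2
  rw [h, det_smul, det_one, Fintype.card_fin, mul_one, sq_eq_one_iff] at hd
  rcases hd with rfl | rfl
  · left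
    exact Subtype.ext (by rw [h]; simp)
  · right
    exact Subtype.ext (by rw [h]; simp only [_root_.neg_smul, _root_.one_smul, _root_.Matrix.SpecialLinearGroup.coe_neg, _root_.Matrix.SpecialLinearGroup.coe_one])

/-- a four-group of `PSL(2,F)`, `F` of odd characteristic, is its own centralizer -/
theorem eq_of_comm (h2 : (2 : F) ≠ 0) {a b c : PSL2 F} (h : CommInv a b) (hca : c * a = a * c)
    (hcb : c * b = b * c) : c = 1 ∨ c = a ∨ c = b ∨ c = a * b := by
  obtain ⟨A, rfl⟩ := QuotientGroup.mk_surjective a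
  obtain ⟨B, rfl⟩ := QuotientGroup.mk_surjective b
  obtain ⟨C, rfl⟩ := QuotientGroup.mk_surjective c
  have hp := (commInv_iff h2).1 h
  have hc : ∀ X : SL2 F, mk C * mk X = mk X * mk C → C.1 * X.1 = X.1 * C.1 ∨ C.1 * X.1 = -(X.1 * C.1) := by
    intro X hX
    have h3 : mk (C * X) = mk (X * C) := hX
    rcases mk_eq_mk.1 h3 with h4 | h4
    · exact Or.inl (congrArg Subtype.val h4)
    · exact Or.inr (congrArg Subtype.val h4)
  have anti' : B.1 * A.1 = -(A.1 * B.1) := by rw [hp.anti, neg_neg]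
  -- if `x * c = 1` for an involution `x` then `c = x`
  have inv_of : ∀ x y : PSL2 F, x * x = 1 → x * y = 1 → y = x := fun x y hx hxy => by
    have h5 : x * y = x * x := by rw [hx, hxy]
    exact mul_left_cancel h5
  rcases hc A hca with hA | hA <;> rcases hc B hcb with hB | hB
  · left
    obtain ⟨r, hr⟩ := Cfsg.Agent.Lib.PSL2Four.scalar_of_comm h2 hp hA hB
    exact mk_eq_one_of_scalar hr
  · right; left
    apply inv_of _ _ h.xx
    have e1 : (A * C).1 * A.1 = A.1 * (A * C).1 := by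
      change A.1 * C.1 * A.1 = A.1 * (A.1 * C.1)
      rw [mul_assoc, hA]
    have e2 : (A * C).1 * B.1 = B.1 * (A * C).1 := by
      change A.1 * C.1 * B.1 = B.1 * (A.1 * C.1)
      rw [mul_assoc, hB, mul_neg, ← mul_assoc, ← mul_assoc, anti', neg_mul]
    obtain ⟨r, hr⟩ := Cfsg.Agent.Lib.PSL2Four.scalar_of_comm h2 hp e1 e2
    exact mk_eq_one_of_scalar hr
  · right; right; left
    apply inv_of _ _ h.yy
    have e1 : (B * C).1 * A.1 = A.1 * (B * C).1 := by
      change B.1 * C.1 * A.1 = A.1 * (B.1 * C.1)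
      rw [mul_assoc, hA, mul_neg, ← mul_assoc, ← mul_assoc, anti', neg_mul, neg_neg]
    have e2 : (B * C).1 * B.1 = B.1 * (B * C).1 := by
      change B.1 * C.1 * B.1 = B.1 * (B.1 * C.1)
      rw [mul_assoc, hB]
    obtain ⟨r, hr⟩ := Cfsg.Agent.Lib.PSL2Four.scalar_of_comm h2 hp e1 e2
    exact mk_eq_one_of_scalar hr
  · right; right; right
    apply inv_of _ _ (by
      rw [mul_assoc, ← mul_assoc (QuotientGroup.mk B : PSL2 F), ← h.comm, mul_assoc, h.yy, mul_one, h.xx])
    have e1 : (A * B * C).1 * A.1 = A.1 * (A * B * C).1 := by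
      change A.1 * B.1 * C.1 * A.1 = A.1 * (A.1 * B.1 * C.1)
      calc A.1 * B.1 * C.1 * A.1 = A.1 * B.1 * (C.1 * A.1) := by rw [mul_assoc (A.1 * B.1)]
        _ = -(A.1 * (B.1 * A.1) * C.1) := by rw [hA, mul_neg, ← mul_assoc, mul_assoc A.1]
        _ = _ := by rw [anti', mul_neg, neg_mul, neg_neg]; simp only [mul_assoc]
    have e2 : (A * B * C).1 * B.1 = B.1 * (A * B * C).1 := by
      change A.1 * B.1 * C.1 * B.1 = B.1 * (A.1 * B.1 * C.1)
      calc A.1 * B.1 * C.1 * B.1 = A.1 * B.1 * (C.1 * B.1) := by rw [mul_assoc (A.1 * B.1)]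
        _ = -(A.1 * B.1) * B.1 * C.1 := by rw [hB, mul_neg, ← mul_assoc, neg_mul, neg_mul]
        _ = _ := by rw [← anti']; simp only [mul_assoc]
    obtain ⟨r, hr⟩ := Cfsg.Agent.Lib.PSL2Four.scalar_of_comm h2 hp e1 e2
    exact mk_eq_one_of_scalar hr

theorem no_elem_psl (h2 : (2 : F) ≠ 0) (A : Subgroup (PSL2 F)) (hA : ∀ x ∈ A, x * x = 1) :
    Nat.card A ≤ 4 := by
  classical
  have hcomm : ∀ x ∈ A, ∀ y ∈ A, x * y = y * x := by
    intro x hx y hy
    have h1 := hA _ (A.mul_mem hx hy)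
    have h3 : x⁻¹ = x := inv_eq_of_mul_eq_one_left (hA x hx)
    have h4 : y⁻¹ = y := inv_eq_of_mul_eq_one_left (hA y hy)
    have h5 : (x * y)⁻¹ = x * y := inv_eq_of_mul_eq_one_left h1
    rw [_root_.mul_inv_rev, h3, h4] at h5
    exact h5.symm
  by_contra hcon
  push Not at hcon
  have hsub : ∀ t : Finset (PSL2 F), t.card ≤ 4 → ¬ ∀ x ∈ A, x ∈ t := by
    intro t ht hall
    have h3 : Nat.card A ≤ Nat.card t := Nat.card_le_card_of_injective
      (fun x : A => (⟨x.1, hall x.1 x.2⟩ : t)) (fun x y hxy => Subtype.ext (congrArg (fun z : t => (z : PSL2 F)) hxy))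
    rw [Nat.card_eq_fintype_card (α := t), Fintype.card_coe] at h3
    omega
  obtain ⟨a, haA, ha⟩ : ∃ a ∈ A, a ≠ 1 := by
    by_contra hc
    push Not at hc
    exact hsub {1} (by simp) (fun x hx => by simp [hc x hx])
  obtain ⟨b, hbA, hb⟩ : ∃ b ∈ A, b ≠ 1 ∧ a ≠ b := by
    by_contra hc
    push Not at hc
    refine hsub {1, a} (Finset.card_le_two.trans (by norm_num)) (fun x hx => ?_)
    by_cases hx1 : x = 1
    · simp [hx1]
    · simp [hc x hx hx1]
  have hci : CommInv a b := ⟨ha, hb.1, hb.2, hA a haA, hA b hbA, hcomm a haA b hbA⟩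
  refine hsub {1, a, b, a * b} Finset.card_le_four (fun x hx => ?_)
  rcases eq_of_comm h2 hci (hcomm x hx a haA) (hcomm x hx b hbA) with h | h | h | h <;> simp only [h, _root_.Finset.mem_insert, _root_.Finset.mem_singleton, _root_.true_or, _root_.left_eq_mul, _root_.or_true, _root_.right_eq_mul, _root_.mul_eq_left, _root_.mul_eq_right]

end PSL

theorem two_ne_zero_of_odd {F : Type*} [Field F] [Fintype F] (h : Odd (Fintype.card F)) : (2 : F) ≠ 0 := by
  intro h2
  have hc : CharP F 2 := CharTwo.of_one_ne_zero_of_two_eq_zero one_ne_zero h2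
  obtain ⟨n, -, hn⟩ := FiniteField.card F 2
  rw [hn] at h
  have : Even ((2 : ℕ) ^ (n : ℕ)) := (Nat.even_pow.2 ⟨even_two, n.pos.ne'⟩)
  exact (Nat.not_even_iff_odd.2 h) this

theorem map_hyp {G H : Type*} [Group G] [Group H] (e : G ≃* H) (A : Subgroup G)
    (hA : ∀ x ∈ A, x * x = 1) : (∀ x ∈ A.map e.toMonoidHom, x * x = 1) ∧
      Nat.card (A.map e.toMonoidHom) = Nat.card A := by
  constructor
  · rintro _ ⟨x, hx, rfl⟩
    rw [← map_mul, hA x hx, map_one]
  · exact Nat.card_congr (A.equivMapOfInjective e.toMonoidHom e.injective).symm.toEquiv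

theorem not_sixteen_dvd (m : ℕ) : ¬ 16 ∣ (3 ^ (2 * m + 1)) ^ 3 * (3 ^ (2 * m + 1) - 1) *
    ((3 ^ (2 * m + 1)) ^ 3 + 1) := by
  have h9 : ∀ m : ℕ, 3 ^ (2 * m + 1) % 8 = 3 := by
    intro m
    rw [pow_succ, pow_mul, Nat.mul_mod, Nat.pow_mod]
    norm_num
  obtain ⟨j, hj⟩ : ∃ j, 3 ^ (2 * m + 1) = 8 * j + 3 := ⟨3 ^ (2 * m + 1) / 8, by have := h9 m; omega⟩
  rw [hj]
  have e1 : 8 * j + 3 - 1 = 2 * (4 * j + 1) := by omega
  rw [e1]
  intro h
  have e3 : (8 * j + 3) ^ 3 + 1 = 4 * (128 * j ^ 3 + 144 * j ^ 2 + 54 * j + 7) := by ring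
  rw [e3] at h
  have e4 : (8 * j + 3) ^ 3 * (2 * (4 * j + 1)) * (4 * (128 * j ^ 3 + 144 * j ^ 2 + 54 * j + 7)) =
      8 * ((8 * j + 3) ^ 3 * (4 * j + 1) * (128 * j ^ 3 + 144 * j ^ 2 + 54 * j + 7)) := by ring
  rw [e4, show 16 = 8 * 2 by norm_num] at h
  have h5 := Nat.dvd_of_mul_dvd_mul_left (by norm_num) h
  have o1 : Odd ((8 * j + 3) ^ 3 * (4 * j + 1) * (128 * j ^ 3 + 144 * j ^ 2 + 54 * j + 7)) := by
    refine ((Odd.pow ⟨4 * j + 1, by ring⟩).mul ⟨2 * j, by ring⟩).mul
      ⟨64 * j ^ 3 + 72 * j ^ 2 + 27 * j + 3, by ring⟩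
  exact (Nat.not_even_iff_odd.2 o1) (even_iff_two_dvd.2 h5)

theorem no_elem16 {G : Type*} [Group G] [Finite G] (h : Cfsg.Agent.OddHalf.LieOddFam.XL27 G ∨
    Cfsg.Agent.OddHalf.LieOddFam.XL2Big G ∨ Cfsg.Lie.IsoRee G) (A : Subgroup G)
    (hA : ∀ x ∈ A, x * x = 1) (hc : 16 ≤ Nat.card A) : False := by
  rcases h with ⟨F, _, _, hF, ⟨e⟩⟩ | ⟨F, _, _, hF, -, ⟨e⟩⟩ | ⟨K, _, _, m, -, hK, ⟨e⟩⟩
  · obtain ⟨h1, h2⟩ := map_hyp e A hA
    have h3 := no_elem_psl (two_ne_zero_of_odd (by rw [hF]; decide)) _ h1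
    rw [h2] at h3
    omega
  · obtain ⟨h1, h2⟩ := map_hyp e A hA
    have h3 := no_elem_psl (two_ne_zero_of_odd hF) _ h1
    rw [h2] at h3
    omega
  · have hp : IsPGroup 2 A := by
      intro x
      refine ⟨1, ?_⟩
      rw [pow_one, pow_two]
      exact Subtype.ext (hA x x.2)
    obtain ⟨n, hn⟩ := IsPGroup.iff_card.1 hp
    have h4 : 4 ≤ n := by
      by_contra hcon
      have h5 : n ≤ 3 := by omega
      have h6 : (2 : ℕ) ^ n ≤ 2 ^ 3 := Nat.pow_le_pow_right (by norm_num) h5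
      rw [hn] at hc
      omega
    apply not_sixteen_dvd m
    rw [← Cfsg.Agent.S1069.result hK, ← Nat.card_congr e.toEquiv]
    have h7 : (16 : ℕ) ∣ Nat.card A := by
      rw [hn]; exact (pow_dvd_pow 2 h4)
    exact h7.trans (Subgroup.card_subgroup_dvd_card A)

end Cfsg.Agent.H126.ElemSixteen
end

-- part: H762/Main
section
/-!
helper762 (S3263): the centralizer of a 2-central involution.
-/

set_option autoImplicit false

namespace Cfsg.Agent.H762

open Subgroup

/-- the situation of S3263: `C ⊴ C_G(τ)` of odd index -/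
structure GHyp {G : Type*} [Group G] (τ : G) (S : Sylow 2 G) (C : Subgroup G) (m : ℕ) : Prop where
  ord : orderOf τ = 2
  mem : τ ∈ (S : Subgroup G)
  comm : ∀ s ∈ (S : Subgroup G), s * τ = τ * s
  le : C ≤ centralizer ({τ} : Set G)
  norm : (C.subgroupOf (centralizer ({τ} : Set G))).Normal
  odd : Odd (C.relIndex (centralizer ({τ} : Set G)))
  hyp : CHyp ↥C m

namespace GHyp

variable {G : Type*} [Group G] [Finite G] {τ : G} {S : Sylow 2 G} {C : Subgroup G} {m : ℕ} (h : GHyp τ S C m)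
include h

/-- 2-elements of the centralizer lie in `C` -/
theorem two_mem {x : G} (hx : x * τ = τ * x) (h2 : ∃ k, x ^ 2 ^ k = 1) : x ∈ C := by
  have hn := h.norm
  have hxH : x ∈ centralizer ({τ} : Set G) := mem_centralizer_singleton_iff.2 hx
  obtain ⟨k, hk⟩ := h2
  have h1 : (QuotientGroup.mk (⟨x, hxH⟩ : ↥(centralizer ({τ} : Set G))) :
      ↥(centralizer ({τ} : Set G)) ⧸ C.subgroupOf (centralizer ({τ} : Set G))) ^ 2 ^ k = 1 := by
    rw [← QuotientGroup.mk_pow]
    have h3 : (⟨x, hxH⟩ : ↥(centralizer ({τ} : Set G))) ^ 2 ^ k = 1 := Subtype.ext hk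
    rw [h3]; rfl
  have h2 : orderOf (QuotientGroup.mk (⟨x, hxH⟩ : ↥(centralizer ({τ} : Set G))) :
      ↥(centralizer ({τ} : Set G)) ⧸ C.subgroupOf (centralizer ({τ} : Set G))) = 1 := by
    have h3 := orderOf_dvd_of_pow_eq_one h1
    have h4 := _root_.orderOf_dvd_natCard (QuotientGroup.mk (⟨x, hxH⟩ : ↥(centralizer ({τ} : Set G))) :
      ↥(centralizer ({τ} : Set G)) ⧸ C.subgroupOf (centralizer ({τ} : Set G)))
    have h5 : Odd (Nat.card (↥(centralizer ({τ} : Set G)) ⧸ C.subgroupOf (centralizer ({τ} : Set G)))) := h.odd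
    have h6 : Nat.Coprime (2 ^ k) (Nat.card (↥(centralizer ({τ} : Set G)) ⧸ C.subgroupOf (centralizer ({τ} : Set G)))) :=
      Nat.Coprime.pow_left _ (Nat.coprime_two_left.2 h5)
    exact Nat.dvd_one.1 (h6.gcd_eq_one ▸ Nat.dvd_gcd h3 h4)
  rw [orderOf_eq_one_iff, QuotientGroup.eq_one_iff] at h2
  exact h2

theorem S_le : (S : Subgroup G) ≤ C := by
  intro s hs
  obtain ⟨k, hk⟩ := S.isPGroup' ⟨s, hs⟩
  exact h.two_mem (h.comm s hs) ⟨k, by simpa only [_root_.SubmonoidClass.mk_pow, _root_.OneMemClass.coe_one] using congrArg Subtype.val hk⟩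

theorem not_pair : ¬ ThreePair τ := by
  rintro ⟨a, b, ha, hb, ha2, hb2, hne, h3⟩
  have haC : a ∈ C := h.two_mem ha ⟨1, by rw [pow_one, pow_two, ha2]⟩
  have hbC : b ∈ C := h.two_mem hb ⟨1, by rw [pow_one, pow_two, hb2]⟩
  apply h.hyp.three
  have h4 : orderOf (⟨a * b, mul_mem haC hbC⟩ : ↥C) = 3 := by
    apply orderOf_eq_prime
    · apply Subtype.ext
      show (a * b) ^ 3 = 1
      rw [pow_three', h3]
    · intro h5
      exact hne (congrArg Subtype.val h5)
  rw [← h4]
  exact _root_.orderOf_dvd_natCard _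

theorem not_norm : ¬ ∀ g, g * τ = τ * g → ∀ s ∈ (S : Subgroup G), g * s * g⁻¹ ∈ (S : Subgroup G) := by
  intro hn
  refine h.hyp.closed ((S : Subgroup G).subgroupOf C) ⟨fun x hx g => ?_⟩ S.isPGroup'.comap_subtype ?_
  · exact hn g (mem_centralizer_singleton_iff.1 (h.le g.2)) x hx
  · have h1 : (S : Subgroup G).relIndex C ∣ (S : Subgroup G).index := relIndex_dvd_index_of_le h.S_le
    intro h2
    have hfact : Fact (Nat.Prime 2) := ⟨Nat.prime_two⟩
    exact S.not_dvd_index (h2.trans h1)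

theorem card_two : ∃ a, Odd a ∧ Nat.card G = 2 ^ (12 * (2 * m + 1)) * a := by
  obtain ⟨a, ha, h1⟩ := h.hyp.two
  have hfact : Fact (Nat.Prime 2) := ⟨Nat.prime_two⟩
  have h2 : Odd C.index := by
    rw [← Nat.not_even_iff_odd, even_iff_two_dvd]
    intro h3
    exact S.not_dvd_index (h3.trans (index_dvd_of_le h.S_le))
  refine ⟨a * C.index, ha.mul h2, ?_⟩
  rw [← C.card_mul_index, h1, mul_assoc]

theorem dvd_card : 2 ^ (12 * (2 * m + 1)) ∣ Nat.card G := by
  obtain ⟨a, -, h1⟩ := h.card_two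
  rw [h1]; exact dvd_mul_right _ _

theorem not_dvd_card : ¬ 2 ^ (12 * (2 * m + 1) + 1) ∣ Nat.card G := by
  obtain ⟨a, ha, h1⟩ := h.card_two
  rw [h1, pow_succ]
  intro h2
  have h3 := Nat.dvd_of_mul_dvd_mul_left (by positivity) h2
  exact (Nat.not_even_iff_odd.2 ha) (even_iff_two_dvd.2 h3)

/-- the exponent of two in `|G|` -/
theorem eq_of_card {N k : ℕ} (hN : Odd N) (h1 : Nat.card G = 2 ^ k * N) : k = 12 * (2 * m + 1) := by
  have a1 := h.dvd_card
  have a2 := h.not_dvd_card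
  rw [h1] at a1 a2
  apply le_antisymm
  · by_contra hcon
    apply a2
    exact (pow_dvd_pow 2 (by omega)).trans (dvd_mul_right _ _)
  · have h2 : 2 ^ (12 * (2 * m + 1)) ∣ 2 ^ k :=
      Nat.Coprime.dvd_of_dvd_mul_right (Nat.Coprime.pow_left _ (Nat.coprime_two_left.2 hN)) a1
    exact (Nat.pow_dvd_pow_iff_le_right (by norm_num)).1 h2

theorem cent_le_normalizer : centralizer ({τ} : Set G) ≤ normalizer (C : Set G) := by
  have hn := h.norm
  intro g hg
  rw [mem_normalizer_iff]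
  intro x
  constructor
  · intro hx
    exact hn.conj_mem ⟨x, h.le hx⟩ hx ⟨g, hg⟩
  · intro hx
    have h1 := hn.conj_mem ⟨g * x * g⁻¹, h.le hx⟩ hx ⟨g⁻¹, inv_mem hg⟩
    have h2 : g⁻¹ * (g * x * g⁻¹) * g⁻¹⁻¹ ∈ C := h1
    have e : g⁻¹ * (g * x * g⁻¹) * g⁻¹⁻¹ = x := by group
    rwa [e] at h2

/-- `m ≥ 1` : no odd Lie type -/
theorem not_lo (hm : 1 ≤ m) (hlo : FixBN.LOAut G) : False := by
  obtain ⟨hperf, Q, hQn, hQ2, x, hx, y, hxy⟩ := h.hyp.perf hm
  have hfix : ∀ g, g ∈ FixBN.Reduce.fixSub (MulAut.conj τ) ↔ g ∈ centralizer ({τ} : Set G) := by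
    intro g
    rw [mem_centralizer_singleton_iff]
    show τ * g * τ⁻¹ = g ↔ _
    rw [mul_inv_eq_iff_eq_mul]
    exact eq_comm
  have hττ : τ * τ = 1 := by rw [← pow_two, ← h.ord, pow_orderOf_eq_one]
  have hO : Q ≤ pCore 2 ↥C := Lib.Cores.le_pCore hQn hQ2
  have h1 := hlo (MulAut.conj τ) (fun g => by
      show τ * (τ * g * τ⁻¹) * τ⁻¹ = g
      have e : τ * (τ * g * τ⁻¹) * τ⁻¹ = (τ * τ) * g * (τ * τ)⁻¹ := by group
      rw [e, hττ]; group) (pCoreOf 2 C) C
    (fun x hx => by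
      obtain ⟨x', -, rfl⟩ := hx
      exact (hfix _).2 (h.le x'.2))
    (fun g hg x hx => by
      have h2 := H230.normalizer_le_normalizer_pCoreOf 2 C (h.cent_le_normalizer ((hfix g).1 hg))
      exact (mem_normalizer_iff.1 h2 x).1 hx)
    ((Lib.Cores.pCore_isPGroup 2).map _)
    (fun g hg => (hfix g).2 (h.le hg))
    (by
      rw [← map_subtype_commutator, hperf, ← MonoidHom.range_eq_map, range_subtype])
    y y.2 x ⟨x, hO hx, rfl⟩
  exact hxy (Subtype.ext h1.symm)

/-- conjugation by an element of `C_G(τ)` of 3-power order is trivial on `C` (`m = 0`) -/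
theorem three_trivial (hm : m = 0) {w : G} (hw : w ∈ centralizer ({τ} : Set G)) (hk : ∃ k : ℕ, w ^ 3 ^ k = 1) {t : G}
    (ht : t ∈ C) : w * t = t * w := by
  obtain ⟨k, hk⟩ := hk
  have h1 := h.hyp.aut hm (C.normalizerMonoidHom ⟨w, h.cent_le_normalizer hw⟩) ⟨k, by
    rw [← map_pow]
    have e : (⟨w, h.cent_le_normalizer hw⟩ : ↥(normalizer (C : Set G))) ^ 3 ^ k = 1 := Subtype.ext hk
    rw [e, map_one]⟩
  have h2 := congrArg Subtype.val (DFunLike.congr_fun h1 ⟨t, ht⟩)
  have h3 : w * t * w⁻¹ = t := h2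
  rwa [mul_inv_eq_iff_eq_mul] at h3

omit h in
/-- three divides `|SL₂(F)|` -/
theorem three_dvd_sl (F : Type*) [Field F] [Finite F] : 3 ∣ Nat.card (Matrix.SpecialLinearGroup (Fin 2) F) := by
  let A : Matrix.SpecialLinearGroup (Fin 2) F := ⟨!![0, -1; 1, -1], by rw [Matrix.det_fin_two_of]; ring⟩
  have h1 : orderOf A = 3 := by
    apply orderOf_eq_prime
    · apply Subtype.ext
      rw [pow_three', Matrix.SpecialLinearGroup.coe_mul, Matrix.SpecialLinearGroup.coe_mul]
      show !![0, -1; 1, -1] * !![0, -1; 1, -1] * !![0, -1; 1, -1] = (1 : Matrix (Fin 2) (Fin 2) F)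
      rw [Matrix.mul_fin_two, Matrix.mul_fin_two, Matrix.one_fin_two]
      ext i j
      (revert i j; simp [_root_.Fin.forall_fin_succ])
    · intro h1
      have h2 := congrArg (fun X : Matrix.SpecialLinearGroup (Fin 2) F => (X : Matrix (Fin 2) (Fin 2) F) 1 0) h1
      have h3 : (1 : F) = 0 := h2
      exact one_ne_zero h3
  rw [← h1]
  exact _root_.orderOf_dvd_natCard _

/-- `m = 0` : no odd Lie type -/
theorem not_rk (hm : m = 0) {q : ℕ} (hq : OddHalf.LieOddFam.OddPow q) (hrk : OddHalf.LieOddFam.Rk G q) : False := by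
  have hl := OddHalf.LongSL.hasLong_of_rk hq hrk
  have hn := h.norm
  rcases H753.three_of_hasLong hl h.ord h.mem h.comm with ⟨F, _, _, J, hF, hF2, hJ, ⟨e⟩⟩ | ⟨T, w, hT, hTC, hw, hk, t, ht, hwt⟩
  · have h2F : (2 : F) ≠ 0 := GTwoRows.two_ne hF2
    have hqs := GTwoRows.isQuasisimple_sl hF
    have hJn : (C.subgroupOf J).Normal := by
      refine ⟨fun x hx g => ?_⟩
      exact (mem_normalizer_iff.1 (h.cent_le_normalizer (hJ g.2)) x).1 hx
    have htwo : ∀ x : ↥J, (∃ k, x ^ 2 ^ k = 1) → x ∈ C.subgroupOf J := by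
      rintro x ⟨k, hk⟩
      exact h.two_mem (mem_centralizer_singleton_iff.1 (hJ x.2)) ⟨k, by simpa only [_root_.Subgroup.subtype_apply, _root_.SubmonoidClass.coe_pow, _root_.OneMemClass.coe_one] using congrArg Subtype.val hk⟩
    rcases Lib.ComponentSolvable.quasisimple_normal_cases hqs (hJn.map e.toMonoidHom e.surjective) with h1 | h1
    · have h2 : J ≤ C := by
        rw [← Subgroup.subgroupOf_eq_top]
        apply Subgroup.map_injective (f := e.toMonoidHom) e.injective
        rw [h1, Subgroup.map_top_of_surjective _ e.surjective]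
      apply h.hyp.three
      refine dvd_trans ?_ (card_dvd_of_le h2)
      rw [Nat.card_congr e.toEquiv]
      exact three_dvd_sl F
    · obtain ⟨P⟩ : Nonempty (Sylow 2 (Matrix.SpecialLinearGroup (Fin 2) F)) := inferInstance
      obtain ⟨x, hx, y, hy, hxy⟩ := LFourB.FixQuat.exists_not_comm h2F P
      have h3 : x ∈ center (Matrix.SpecialLinearGroup (Fin 2) F) := by
        apply h1
        obtain ⟨k, hk⟩ := P.isPGroup' ⟨x, hx⟩
        refine ⟨e.symm x, htwo _ ⟨k, ?_⟩, e.apply_symm_apply x⟩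
        rw [← map_pow]
        have h4 : x ^ 2 ^ k = 1 := by simpa only [_root_.SubmonoidClass.mk_pow, _root_.OneMemClass.coe_one] using congrArg Subtype.val hk
        rw [h4, map_one]
      exact hxy ((mem_center_iff.1 h3 y).symm)
  · -- `T ≤ C`, `w` acts on `C`
    obtain ⟨k, hk'⟩ := hT ⟨t, ht⟩
    have htC : t ∈ C := h.two_mem (mem_centralizer_singleton_iff.1 (hTC ht)) ⟨k, by simpa only [_root_.SubmonoidClass.mk_pow, _root_.OneMemClass.coe_one] using congrArg Subtype.val hk'⟩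
    exact hwt (h.three_trivial hm hw hk htC)

/-- `m = 0` : not of rank one over an odd field -/
theorem not_rank_one (hm : m = 0) (hx : OddHalf.LieOddFam.XL27 G ∨ OddHalf.LieOddFam.XL2Big G ∨ Lie.IsoRee G) :
    False := by
  obtain ⟨A, hA, hc⟩ := h.hyp.elem hm
  refine H126.ElemSixteen.no_elem16 hx (A.map C.subtype) ?_ ?_
  · rintro _ ⟨x, hx, rfl⟩
    exact congrArg Subtype.val (hA x hx)
  · have h1 := Nat.card_congr (A.equivMapOfInjective C.subtype (subtype_injective C)).toEquiv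
    rw [← h1]
    exact hc

/-- small alternating groups -/
theorem not_small_alt {n : ℕ} (hn : n ≤ 8) (e : G ≃* alternatingGroup (Fin n)) : False := by
  have h1 : 2 ^ 12 ∣ Nat.card G := (pow_dvd_pow 2 (by omega)).trans h.dvd_card
  rw [Nat.card_congr e.toEquiv] at h1
  have h2 : Nat.card (alternatingGroup (Fin n)) ∣ Nat.card (Equiv.Perm (Fin n)) := card_subgroup_dvd_card _
  rw [Nat.card_eq_fintype_card (α := Equiv.Perm (Fin n)), Fintype.card_perm, Fintype.card_fin] at h2
  have h3 : 2 ^ 12 ∣ Nat.factorial 8 := (h1.trans h2).trans (Nat.factorial_dvd_factorial hn)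
  rw [show Nat.factorial 8 = 40320 by decide] at h3
  omega

theorem not_suzuki (hs : Lie.IsoSuzuki G) : False := by
  obtain ⟨F, _, _, k, hk, hF, ⟨e⟩⟩ := hs
  have h1 := (S1163.result hk hF).1
  have h0 : (2 ^ (2 * k + 1)) ^ 2 = 2 ^ ((2 * k + 1) * 2) := (pow_mul _ _ _).symm
  rw [← Nat.card_congr e.toEquiv, mul_assoc] at h1
  have hev : Even (2 ^ (2 * k + 1)) := (even_two).pow_of_ne_zero (by omega)
  have hpos : 1 ≤ 2 ^ (2 * k + 1) := Nat.one_le_two_pow
  have o1 : Odd (2 ^ (2 * k + 1) - 1) := Nat.Even.sub_odd hpos hev odd_one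
  have o3 : Odd ((2 ^ (2 * k + 1)) ^ 2 + 1) := (hev.pow_of_ne_zero (by norm_num)).add_odd odd_one
  have h2 := h.eq_of_card (o1.mul o3) (h1.trans (by rw [← h0]))
  omega

theorem two_F4 (hs : Lie.Iso2F4 G) {K : Type*} [Field K] [Fintype K] (hK : Fintype.card K = 2 ^ (2 * m + 1)) :
    1 ≤ m ∧ Nonempty (G ≃* ↥(Lie.twistedF4 K (2 ^ m))) := by
  obtain ⟨F, _, _, k, hk, hF, ⟨e⟩⟩ := hs
  have h1 := S1068.result hF
  have h0 : (2 ^ (2 * k + 1)) ^ 12 = 2 ^ ((2 * k + 1) * 12) := (pow_mul _ _ _).symm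
  rw [← Nat.card_congr e.toEquiv, mul_assoc, mul_assoc, mul_assoc] at h1
  have hev : Even (2 ^ (2 * k + 1)) := (even_two).pow_of_ne_zero (by omega)
  have hpos : 1 ≤ 2 ^ (2 * k + 1) := Nat.one_le_two_pow
  have o1 : Odd (2 ^ (2 * k + 1) - 1) := Nat.Even.sub_odd hpos hev odd_one
  have o3 : Odd ((2 ^ (2 * k + 1)) ^ 3 + 1) := (hev.pow_of_ne_zero (by norm_num)).add_odd odd_one
  have o4 : Odd ((2 ^ (2 * k + 1)) ^ 4 - 1) :=
    Nat.Even.sub_odd (Nat.one_le_pow _ _ (by omega)) (hev.pow_of_ne_zero (by norm_num)) odd_one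
  have o6 : Odd ((2 ^ (2 * k + 1)) ^ 6 + 1) := (hev.pow_of_ne_zero (by norm_num)).add_odd odd_one
  have h2 := h.eq_of_card (o1.mul (o3.mul (o4.mul o6))) (h1.trans (by rw [← h0]))
  have h3 : k = m := by omega
  subst h3
  refine ⟨hk, ⟨e.trans ?_⟩⟩
  have σ : F ≃+* K := FiniteField.ringEquivOfCardEq (by rw [hF, hK])
  exact H296.FFour.twCongr σ _

/-- **the theorem** -/
theorem main [IsSimpleGroup G] (hna : ¬ IsMulCommutative G) (hk : IsKnownSimple' G)
    {K : Type*} [Field K] [Fintype K] (hK : Fintype.card K = 2 ^ (2 * m + 1)) :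
    1 ≤ m ∧ Nonempty (G ≃* ↥(Lie.twistedF4 K (2 ^ m))) := by
  rcases rough hna hk S h.ord h.comm h.not_pair h.not_norm with ⟨n, hn, ⟨e⟩⟩ | ⟨halt, p, hp, h2, hG⟩ | hG | hG | hG | hG
  · exact (h.not_small_alt hn e).elim
  · exfalso
    rcases Nat.eq_zero_or_pos m with hm | hm
    · rcases OddHalf.LieOddFam.lieOdd_cases ⟨p, hp, h2, hG⟩ halt with h1 | h1 | h1 | ⟨q, hq, hrk⟩
      · exact h.not_rank_one hm (Or.inl h1)
      · exact h.not_rank_one hm (Or.inr (Or.inl h1))
      · exact h.not_rank_one hm (Or.inr (Or.inr h1))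
      · exact h.not_rk hm hq hrk
    · exact h.not_lo hm (FixBN.loAut_of_isLieTypeChar h2 hG)
  · exact (h.not_suzuki hG).elim
  · exact h.two_F4 hG hK
  · exact (H126.SporVal.spor_two (Or.inr hG) m h.dvd_card h.not_dvd_card).elim
  · exact (H126.SporVal.spor_two (Or.inl hG) m h.dvd_card h.not_dvd_card).elim

end GHyp

end Cfsg.Agent.H762
end
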